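import Cfsg.Agent.Lib.Helper1.Co1Mu.P7.K3
import Cfsg.Agent.Lib.Helper1.Co1Mu.P7.Cert
set_option autoImplicit false
set_option maxRecDepth 1000000
set_option Elab.async false
namespace Cfsg.Agent.Lib.Helper1.Co1Mu.P7
open Cfsg.Agent.Lib.Helper4.Sparse
theorem ck_60 : chkURange D C 245760 4096 = true := by decide +kernel
theorem ck_61 : chkURange D C 249856 4096 = true := by decide +kernel
theorem ck_62 : chkURange D C 253952 4096 = true := by decide +kernel
theorem ck_63 : chkURange D C 258048 4096 = true := by decide +kernel
theorem ck_64 : chkURange D C 262144 4096 = true := by decide +kernel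
theorem ck_65 : chkURange D C 266240 4096 = true := by decide +kernel
theorem ck_66 : chkURange D C 270336 4096 = true := by decide +kernel
theorem ck_67 : chkURange D C 274432 4096 = true := by decide +kernel
theorem ck_68 : chkURange D C 278528 4096 = true := by decide +kernel
theorem ck_69 : chkURange D C 282624 4096 = true := by decide +kernel
theorem ck_70 : chkURange D C 286720 4096 = true := by decide +kernel
theorem ck_71 : chkURange D C 290816 4096 = true := by decide +kernel
theorem chkU_5 (b : ℕ) (h1 : 245760 ≤ b) (h2 : b < 294912) : chkU D C b = true := by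
  rcases Nat.lt_or_ge b 249856 with g0 | g0
  · exact chkURange_spec D C 245760 4096 ck_60 b (by omega) (by omega)
  rcases Nat.lt_or_ge b 253952 with g1 | g1
  · exact chkURange_spec D C 249856 4096 ck_61 b (by omega) (by omega)
  rcases Nat.lt_or_ge b 258048 with g2 | g2
  · exact chkURange_spec D C 253952 4096 ck_62 b (by omega) (by omega)
  rcases Nat.lt_or_ge b 262144 with g3 | g3
  · exact chkURange_spec D C 258048 4096 ck_63 b (by omega) (by omega)
  rcases Nat.lt_or_ge b 266240 with g4 | g4
  · exact chkURange_spec D C 262144 4096 ck_64 b (by omega) (by omega)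
  rcases Nat.lt_or_ge b 270336 with g5 | g5
  · exact chkURange_spec D C 266240 4096 ck_65 b (by omega) (by omega)
  rcases Nat.lt_or_ge b 274432 with g6 | g6
  · exact chkURange_spec D C 270336 4096 ck_66 b (by omega) (by omega)
  rcases Nat.lt_or_ge b 278528 with g7 | g7
  · exact chkURange_spec D C 274432 4096 ck_67 b (by omega) (by omega)
  rcases Nat.lt_or_ge b 282624 with g8 | g8
  · exact chkURange_spec D C 278528 4096 ck_68 b (by omega) (by omega)
  rcases Nat.lt_or_ge b 286720 with g9 | g9
  · exact chkURange_spec D C 282624 4096 ck_69 b (by omega) (by omega)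
  rcases Nat.lt_or_ge b 290816 with g10 | g10
  · exact chkURange_spec D C 286720 4096 ck_70 b (by omega) (by omega)
  exact chkURange_spec D C 290816 4096 ck_71 b (by omega) (by omega)
end Cfsg.Agent.Lib.Helper1.Co1Mu.P7
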