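import Cfsg.Agent.Lib.Helper1.Co1Mu.P7.K5
import Cfsg.Agent.Lib.Helper1.Co1Mu.P7.Cert
set_option autoImplicit false
set_option maxRecDepth 1000000
set_option Elab.async false
namespace Cfsg.Agent.Lib.Helper1.Co1Mu.P7
open Cfsg.Agent.Lib.Helper4.Sparse
theorem ck_84 : chkURange D C 344064 4096 = true := by decide +kernel
theorem ck_85 : chkURange D C 348160 4096 = true := by decide +kernel
theorem ck_86 : chkURange D C 352256 4096 = true := by decide +kernel
theorem ck_87 : chkURange D C 356352 4096 = true := by decide +kernel
theorem ck_88 : chkURange D C 360448 4096 = true := by decide +kernel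
theorem ck_89 : chkURange D C 364544 4096 = true := by decide +kernel
theorem ck_90 : chkURange D C 368640 4096 = true := by decide +kernel
theorem ck_91 : chkURange D C 372736 4096 = true := by decide +kernel
theorem ck_92 : chkURange D C 376832 4096 = true := by decide +kernel
theorem ck_93 : chkURange D C 380928 4096 = true := by decide +kernel
theorem ck_94 : chkURange D C 385024 4096 = true := by decide +kernel
theorem ck_95 : chkURange D C 389120 4096 = true := by decide +kernel
theorem chkU_7 (b : ℕ) (h1 : 344064 ≤ b) (h2 : b < 393216) : chkU D C b = true := by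
  rcases Nat.lt_or_ge b 348160 with g0 | g0
  · exact chkURange_spec D C 344064 4096 ck_84 b (by omega) (by omega)
  rcases Nat.lt_or_ge b 352256 with g1 | g1
  · exact chkURange_spec D C 348160 4096 ck_85 b (by omega) (by omega)
  rcases Nat.lt_or_ge b 356352 with g2 | g2
  · exact chkURange_spec D C 352256 4096 ck_86 b (by omega) (by omega)
  rcases Nat.lt_or_ge b 360448 with g3 | g3
  · exact chkURange_spec D C 356352 4096 ck_87 b (by omega) (by omega)
  rcases Nat.lt_or_ge b 364544 with g4 | g4
  · exact chkURange_spec D C 360448 4096 ck_88 b (by omega) (by omega)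
  rcases Nat.lt_or_ge b 368640 with g5 | g5
  · exact chkURange_spec D C 364544 4096 ck_89 b (by omega) (by omega)
  rcases Nat.lt_or_ge b 372736 with g6 | g6
  · exact chkURange_spec D C 368640 4096 ck_90 b (by omega) (by omega)
  rcases Nat.lt_or_ge b 376832 with g7 | g7
  · exact chkURange_spec D C 372736 4096 ck_91 b (by omega) (by omega)
  rcases Nat.lt_or_ge b 380928 with g8 | g8
  · exact chkURange_spec D C 376832 4096 ck_92 b (by omega) (by omega)
  rcases Nat.lt_or_ge b 385024 with g9 | g9
  · exact chkURange_spec D C 380928 4096 ck_93 b (by omega) (by omega)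
  rcases Nat.lt_or_ge b 389120 with g10 | g10
  · exact chkURange_spec D C 385024 4096 ck_94 b (by omega) (by omega)
  exact chkURange_spec D C 389120 4096 ck_95 b (by omega) (by omega)
end Cfsg.Agent.Lib.Helper1.Co1Mu.P7
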