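import Cfsg.Agent.Lib.Helper1.Co1Mu.P7.K6
import Cfsg.Agent.Lib.Helper1.Co1Mu.P7.Cert
set_option autoImplicit false
set_option maxRecDepth 1000000
set_option Elab.async false
namespace Cfsg.Agent.Lib.Helper1.Co1Mu.P7
open Cfsg.Agent.Lib.Helper4.Sparse
theorem ck_96 : chkURange D C 393216 4096 = true := by decide +kernel
theorem ck_97 : chkURange D C 397312 4096 = true := by decide +kernel
theorem ck_98 : chkURange D C 401408 4096 = true := by decide +kernel
theorem ck_99 : chkURange D C 405504 4096 = true := by decide +kernel
theorem ck_100 : chkURange D C 409600 4096 = true := by decide +kernel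
theorem ck_101 : chkURange D C 413696 4096 = true := by decide +kernel
theorem ck_102 : chkURange D C 417792 4096 = true := by decide +kernel
theorem ck_103 : chkURange D C 421888 4096 = true := by decide +kernel
theorem ck_104 : chkURange D C 425984 4096 = true := by decide +kernel
theorem ck_105 : chkURange D C 430080 4096 = true := by decide +kernel
theorem ck_106 : chkURange D C 434176 4096 = true := by decide +kernel
theorem ck_107 : chkURange D C 438272 4096 = true := by decide +kernel
theorem chkU_8 (b : ℕ) (h1 : 393216 ≤ b) (h2 : b < 442368) : chkU D C b = true := by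
  rcases Nat.lt_or_ge b 397312 with g0 | g0
  · exact chkURange_spec D C 393216 4096 ck_96 b (by omega) (by omega)
  rcases Nat.lt_or_ge b 401408 with g1 | g1
  · exact chkURange_spec D C 397312 4096 ck_97 b (by omega) (by omega)
  rcases Nat.lt_or_ge b 405504 with g2 | g2
  · exact chkURange_spec D C 401408 4096 ck_98 b (by omega) (by omega)
  rcases Nat.lt_or_ge b 409600 with g3 | g3
  · exact chkURange_spec D C 405504 4096 ck_99 b (by omega) (by omega)
  rcases Nat.lt_or_ge b 413696 with g4 | g4
  · exact chkURange_spec D C 409600 4096 ck_100 b (by omega) (by omega)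
  rcases Nat.lt_or_ge b 417792 with g5 | g5
  · exact chkURange_spec D C 413696 4096 ck_101 b (by omega) (by omega)
  rcases Nat.lt_or_ge b 421888 with g6 | g6
  · exact chkURange_spec D C 417792 4096 ck_102 b (by omega) (by omega)
  rcases Nat.lt_or_ge b 425984 with g7 | g7
  · exact chkURange_spec D C 421888 4096 ck_103 b (by omega) (by omega)
  rcases Nat.lt_or_ge b 430080 with g8 | g8
  · exact chkURange_spec D C 425984 4096 ck_104 b (by omega) (by omega)
  rcases Nat.lt_or_ge b 434176 with g9 | g9
  · exact chkURange_spec D C 430080 4096 ck_105 b (by omega) (by omega)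
  rcases Nat.lt_or_ge b 438272 with g10 | g10
  · exact chkURange_spec D C 434176 4096 ck_106 b (by omega) (by omega)
  exact chkURange_spec D C 438272 4096 ck_107 b (by omega) (by omega)
end Cfsg.Agent.Lib.Helper1.Co1Mu.P7
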